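import Groth.Agent.Lib.InjTilde20.Main
import Groth.Agent.Lib.LocQCoh25.LC
import Groth.Agent.Lib.LC.Torsion
import Groth.Agent.Lib.QCoh.Qcqs
import Groth.Agent.Lib.QCoh.Abelian
import Groth.Agent.Lib.QCoh.Affine

/-! # Sections with support of an injective quasi-coherent module -/

set_option autoImplicit false
set_option linter.style.haveILetI false
set_option maxHeartbeats 800000
set_option backward.isDefEq.respectTransparency false

universe u

open CategoryTheory CategoryTheory.Limits AlgebraicGeometry Opposite

namespace GrothLib.GammaInj22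

/-- Sections of an injective quasi-coherent module over an affine open form an injective module. -/
theorem injective_sections {X : Scheme.{u}} (I : X.Modules) [I.IsQuasicoherent] [Injective I] {U : X.Opens}
    (hU : IsAffineOpen U) : Module.Injective Γ(X, U) Γ(I, U) := by
  have h1 : Injective (I.restrict hU.fromSpec) :=
    HomRestrict20.injective_restrictFunctor hU.fromSpec I inferInstance
  have h2 : Injective ((tilde.functor Γ(X, U)).obj (ExtTilde20.secMod (U := U) I)) :=
    Injective.of_iso (ExtTilde20.restrictTildeIso hU I) h1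
  haveI : Injective (ExtTilde20.secMod (U := U) I) :=
    Injective.of_iso ((tilde.toTildeΓNatIso (R := Γ(X, U))).app _).symm
      ((tilde.adjunction (R := Γ(X, U))).map_injective _ h2)
  exact Module.injective_module_of_injective_object Γ(X, U) Γ(I, U)

/-- The ideal of functions on an affine open invertible only inside another open. -/
noncomputable def awayIdeal {X : Scheme.{u}} (U W : X.Opens) : Ideal Γ(X, U) :=
  Ideal.span {g | X.basicOpen g ≤ W}

variable {U X : Scheme.{u}} [IsNoetherian X] (j : U ⟶ X) [IsOpenImmersion j]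

/-- `Γ_Z` of an injective quasi-coherent module is injective. -/
theorem injective_gammaZ (I : X.Modules) [I.IsQuasicoherent] [Injective I] :
    Injective ((DCoh.gammaZ j).obj I) := by
  haveI : QuasiCompact j := inferInstance
  haveI : (I.restrict j).IsQuasicoherent := inferInstance
  haveI : ((Scheme.Modules.pushforward j).obj (I.restrict j)).IsQuasicoherent :=
    QCoh.isQuasicoherent_pushforward j _
  haveI : ((𝟭 X.Modules).obj I).IsQuasicoherent := inferInstanceAs I.IsQuasicoherent
  haveI : ((Scheme.Modules.restrictFunctor j ⋙ Scheme.Modules.pushforward j).obj I).IsQuasicoherent :=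
    inferInstanceAs ((Scheme.Modules.pushforward j).obj (I.restrict j)).IsQuasicoherent
  haveI : ((DCoh.gammaZ j).obj I).IsQuasicoherent :=
    QCoh.isQuasicoherent_kernel ((Scheme.Modules.restrictAdjunction j).unit.app I)
  refine GrothLib.InjTilde20.injective_of_sections _ fun V hV => ?_
  haveI : IsNoetherianRing Γ(X, V) := IsLocallyNoetherian.component_noetherian ⟨V, hV⟩
  let ι := (LocQCoh25.gammaι j).app I
  let l : Γ((DCoh.gammaZ j).obj I, V) →ₗ[Γ(X, V)] Γ(I, V) :=
    { toFun := fun t => ι.app V t
      map_add' := map_add _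
      map_smul' := fun r t => Scheme.Modules.Hom.app_smul ι r t }
  have hl : Function.Injective l := LocQCoh25.gammaι_injective j I V
  let Ω : X.Opens := j.opensRange
  let a : Ideal Γ(X, V) := awayIdeal V Ω
  have himg : j ''ᵁ (j ⁻¹ᵁ V) = Ω ⊓ V := Scheme.Hom.image_preimage_eq_opensRange_inf j V
  have hmem : ∀ x : Γ(I, V), x ∈ LinearMap.range l ↔ ∃ n : ℕ, ∀ b ∈ a ^ n, b • x = 0 := by
    intro x
    constructor
    · rintro ⟨t, rfl⟩
      have h0 : I.presheaf.map (homOfLE (Scheme.Hom.image_preimage_le j V)).op (l t) = 0 :=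
        LocQCoh25.gammaι_vanish j I V t
      have hS : ∀ g : Γ(X, V), X.basicOpen g ≤ Ω → g ∈ Ideal.radical (Ideal.torsionOf Γ(X, V) Γ(I, V) (l t)) := by
        intro g hg
        have hle : X.basicOpen g ≤ j ''ᵁ (j ⁻¹ᵁ V) := himg ▸ le_inf hg (X.basicOpen_le g)
        obtain ⟨n, hn⟩ := (QCoh.smulLift_and_smulSep_of_isAffineOpen hV I g).2 (l t) (by
          have h2 := congrArg (fun z => I.presheaf.map (homOfLE hle).op z) h0
          simp only [map_zero] at h2
          rw [← h2]
          exact (ConcreteCategory.congr_hom (I.presheaf.map_comp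
            (homOfLE (Scheme.Hom.image_preimage_le j V)).op (homOfLE hle).op) (l t)))
        exact ⟨n, hn⟩
      obtain ⟨n, hn⟩ := Ideal.exists_radical_pow_le_of_fg (Ideal.torsionOf Γ(X, V) Γ(I, V) (l t))
        (IsNoetherian.noetherian _)
      exact ⟨n, fun b hb => hn (Ideal.pow_right_mono (Ideal.span_le.2 hS) n hb)⟩
    · rintro ⟨n, hn⟩
      obtain ⟨t, ht⟩ := LocQCoh25.exists_gammaι j I V x (by
        refine TopCat.Sheaf.eq_of_locally_eq' (⟨I.presheaf, Scheme.Modules.isSheaf I⟩ : TopCat.Sheaf AddCommGrpCat.{u} X)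
          (fun g : {g : Γ(X, V) // X.basicOpen g ≤ Ω} => X.basicOpen g.1) (j ''ᵁ (j ⁻¹ᵁ V))
          (fun g => homOfLE (himg ▸ le_inf g.2 (X.basicOpen_le g.1))) ?_ _ _ fun g => ?_
        · intro y hy
          have hy' : y ∈ Ω ⊓ V := himg ▸ hy
          obtain ⟨f, hf, hyf⟩ := hV.exists_basicOpen_le ⟨y, hy'.1⟩ hy'.2
          exact TopologicalSpace.Opens.mem_iSup.2 ⟨⟨f, hf⟩, hyf⟩
        · have hz : I.presheaf.map (homOfLE (X.basicOpen_le g.1)).op (g.1 ^ n • x) = 0 := by
            rw [hn _ (Ideal.pow_mem_pow (Ideal.subset_span g.2) n), map_zero]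
          rw [Scheme.Modules.map_smul, map_pow] at hz
          have hu : IsUnit ((X.presheaf.map (homOfLE (X.basicOpen_le g.1)).op g.1) ^ n) :=
            (RingedSpace.isUnit_res_basicOpen _ g.1).pow n
          have hz' := hu.smul_eq_zero.1 hz
          rw [map_zero]
          exact (ConcreteCategory.congr_hom (I.presheaf.map_comp
            (homOfLE (Scheme.Hom.image_preimage_le j V)).op _) x).symm.trans hz')
      exact ⟨t, ht⟩
  haveI : Module.Injective Γ(X, V) (LinearMap.range l) :=
    GrothLib.InjMod.injective_of_mem_iff_powTorsion (injective_sections I hV) a _ hmem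
  exact GrothLib.InjMod.injective_of_linearEquiv (LinearEquiv.ofInjective l hl) inferInstance

end GrothLib.GammaInj22
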